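/-
Commuting involutions diagonalise in odd characteristic.
-/
import Cfsg.Agent.EqLemmas
import Mathlib.LinearAlgebra.Matrix.GeneralLinearGroup.Defs
import Mathlib.LinearAlgebra.Matrix.NonsingularInverse
import Mathlib.LinearAlgebra.Dimension.Finite

set_option autoImplicit false

namespace Cfsg.Agent.GLNormalTwoRank

open Matrix

variable {F : Type*} [Field F] [Finite F] {n : ℕ}

theorem span_eigen (h2 : (2 : F) ≠ 0) (E : Subgroup (GL (Fin n) F))
    (hc : ∀ a ∈ E, ∀ b ∈ E, a * b = b * a) (hi : ∀ a ∈ E, a ^ 2 = 1)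
    (s : Finset (GL (Fin n) F)) (hs : ∀ e ∈ s, e ∈ E) (v : Fin n → F) :
    v ∈ Submodule.span F {w : Fin n → F | ∀ e ∈ s,
      (e : Matrix (Fin n) (Fin n) F) *ᵥ w = w ∨
      (e : Matrix (Fin n) (Fin n) F) *ᵥ w = -w} := by
  classical
  induction s using Finset.induction generalizing v with
  | empty => exact Submodule.subset_span (by simp)
  | insert e s _ ih =>
    have ih' := ih (fun x hx => hs x (Finset.mem_insert_of_mem hx)) v
    refine (Submodule.span_le.mpr ?_) ih'
    intro w hw
    have he := hs e (Finset.mem_insert_self _ _)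
    let M := (e : Matrix (Fin n) (Fin n) F)
    have hee : M *ᵥ (M *ᵥ w) = w := by
      rw [mulVec_mulVec, show M * M = ((e * e : GL (Fin n) F) : Matrix (Fin n) (Fin n) F) from
        rfl, ← sq, hi e he, Units.val_one, one_mulVec]
    have hcomm : ∀ x ∈ s, (x : Matrix (Fin n) (Fin n) F) *ᵥ (M *ᵥ w) =
        M *ᵥ ((x : Matrix (Fin n) (Fin n) F) *ᵥ w) := by
      intro x hx
      rw [mulVec_mulVec, mulVec_mulVec, show (x : Matrix (Fin n) (Fin n) F) * M =
        ((x * e : GL (Fin n) F) : Matrix (Fin n) (Fin n) F) from rfl,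
        hc x (hs x (Finset.mem_insert_of_mem hx)) e he]
      rfl
    have hplus : w + M *ᵥ w ∈ {w : Fin n → F | ∀ x ∈ insert e s,
        (x : Matrix (Fin n) (Fin n) F) *ᵥ w = w ∨
        (x : Matrix (Fin n) (Fin n) F) *ᵥ w = -w} := by
      intro x hx
      rcases Finset.mem_insert.mp hx with rfl | hx
      · left
        rw [mulVec_add, show (x : Matrix (Fin n) (Fin n) F) = M from rfl, hee, add_comm]
      · rcases hw x hx with h | h
        · left; rw [mulVec_add, hcomm x hx, h]
        · right; rw [mulVec_add, hcomm x hx, h, mulVec_neg, neg_add]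
    have hminus : w - M *ᵥ w ∈ {w : Fin n → F | ∀ x ∈ insert e s,
        (x : Matrix (Fin n) (Fin n) F) *ᵥ w = w ∨
        (x : Matrix (Fin n) (Fin n) F) *ᵥ w = -w} := by
      intro x hx
      rcases Finset.mem_insert.mp hx with rfl | hx
      · right
        rw [mulVec_sub, show (x : Matrix (Fin n) (Fin n) F) = M from rfl, hee, neg_sub]
      · rcases hw x hx with h | h
        · left; rw [mulVec_sub, hcomm x hx, h]
        · right; rw [mulVec_sub, hcomm x hx, h, mulVec_neg, neg_sub']
    have hw2 : w = (2 : F)⁻¹ • ((w + M *ᵥ w) + (w - M *ᵥ w)) := by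
      rw [show (w + M *ᵥ w) + (w - M *ᵥ w) = (2 : F) • w by rw [two_smul]; abel, smul_smul,
        inv_mul_cancel₀ h2, one_smul]
    rw [SetLike.mem_coe, hw2]
    exact Submodule.smul_mem _ _ (Submodule.add_mem _ (Submodule.subset_span hplus)
      (Submodule.subset_span hminus))

theorem exists_conj_diag (h2 : (2 : F) ≠ 0) (E : Subgroup (GL (Fin n) F))
    (hc : ∀ a ∈ E, ∀ b ∈ E, a * b = b * a) (hi : ∀ a ∈ E, a ^ 2 = 1) :
    ∃ A : GL (Fin n) F, ∀ e ∈ E, ∃ s : Fin n → F, (∀ i, s i = 1 ∨ s i = -1) ∧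
      ((A⁻¹ * e * A : GL (Fin n) F) : Matrix (Fin n) (Fin n) F) = diagonal s := by
  classical
  haveI := Fintype.ofFinite F
  let s : Finset (GL (Fin n) F) := Finset.univ.filter (fun e => e ∈ E)
  have hs : ∀ e, e ∈ s ↔ e ∈ E := fun e => by simp [s]
  set W := {w : Fin n → F | ∀ e ∈ s, (e : Matrix (Fin n) (Fin n) F) *ᵥ w = w ∨
      (e : Matrix (Fin n) (Fin n) F) *ᵥ w = -w} with hW
  have hspan : ⊤ ≤ Submodule.span F W :=
    fun v _ => span_eigen h2 E hc hi s (fun e he => (hs e).mp he) v
  obtain ⟨b, hbW, hbs, hbl⟩ := exists_linearIndependent F W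
  have hbtop : ⊤ ≤ Submodule.span F (Set.range ((↑) : b → (Fin n → F))) := by
    rw [Subtype.range_coe, hbs]; exact hspan
  let B := Module.Basis.mk hbl hbtop
  let B' := B.reindex (B.indexEquiv (Pi.basisFun F (Fin n)))
  have hB' : ∀ j, B' j ∈ W := fun j => by
    simp only [B', Module.Basis.reindex_apply, B, Module.Basis.mk_apply]
    exact hbW (Subtype.mem _)
  let M : Matrix (Fin n) (Fin n) F := Matrix.of fun i j => B' j i
  have hu : IsUnit M := linearIndependent_cols_iff_isUnit.mp B'.linearIndependent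
  refine ⟨hu.unit, fun e he => ?_⟩
  refine ⟨fun j => if (e : Matrix (Fin n) (Fin n) F) *ᵥ B' j = B' j then 1 else -1,
    fun j => ?_, ?_⟩
  · by_cases h : (e : Matrix (Fin n) (Fin n) F) *ᵥ B' j = B' j
    · exact Or.inl (by simp [h])
    · exact Or.inr (by simp [h])
  · have key : (e : Matrix (Fin n) (Fin n) F) * M = M * diagonal
        (fun j => if (e : Matrix (Fin n) (Fin n) F) *ᵥ B' j = B' j then (1 : F) else -1) := by
      ext i j
      rw [mul_diagonal]
      show ((e : Matrix (Fin n) (Fin n) F) *ᵥ B' j) i = B' j i * _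
      rcases hB' j e ((hs e).mpr he) with h | h
      · simp [h]
      · by_cases h' : (e : Matrix (Fin n) (Fin n) F) *ᵥ B' j = B' j
        · simp [h']
        · rw [if_neg h', h, mul_neg, mul_one]
          rfl
    rw [Units.val_mul, Units.val_mul, mul_assoc, IsUnit.unit_spec, key, ← mul_assoc,
      hu.val_inv_mul, one_mul]

end Cfsg.Agent.GLNormalTwoRank
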