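/-
2-adic valuations of `|GL_n(q)|` for odd `q`.
-/
import Cfsg.Agent.EqLemmas
import Cfsg.Agent.Lib.WreathAb.GL

set_option autoImplicit false

namespace Cfsg.Agent.GLNormalTwoRank

open Finset

/-- The exponent of `2` in `|GL_n(q)|`. -/
def glv (q n : ℕ) : ℕ := padicValNat 2 (∏ i ∈ range n, (q ^ (i + 1) - 1))

variable {q : ℕ} (hq : Odd q) (hq1 : 1 < q)
include hq hq1

theorem glv_eq (n : ℕ) :
    glv q n + n / 2 * (padicValNat 2 (q - 1) + 1) =
      n * padicValNat 2 (q - 1) + padicValNat 2 n.factorial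
        + n / 2 * padicValNat 2 (q ^ 2 - 1) := by
  induction n with
  | zero => simp [glv]
  | succ n ih =>
    have hne : ∀ j, q ^ (j + 1) - 1 ≠ 0 := fun j => by
      have := Nat.one_lt_pow (show j + 1 ≠ 0 by omega) hq1
      omega
    have hs : glv q (n + 1) = glv q n + padicValNat 2 (q ^ (n + 1) - 1) := by
      rw [glv, prod_range_succ,
        padicValNat.mul (prod_ne_zero_iff.mpr fun j _ => hne j) (hne n), glv]
    have hf : padicValNat 2 (n + 1).factorial =
        padicValNat 2 n.factorial + padicValNat 2 (n + 1) := by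
      rw [Nat.factorial_succ, padicValNat.mul (by omega) (Nat.factorial_ne_zero n), add_comm]
    rcases Nat.even_or_odd' n with ⟨k, hk | hk⟩
    · have h1 : (n + 1) / 2 = k := by omega
      have h2 : n / 2 = k := by omega
      have h3 : padicValNat 2 (n + 1) = 0 := padicValNat.eq_zero_of_not_dvd (by omega)
      have h4 : padicValNat 2 (q ^ (n + 1) - 1) = padicValNat 2 (q - 1) := by
        rw [hk, WreathAb.val_pow_odd hq hq1]
      rw [hs, hf, h1, h3, h4]
      rw [h2] at ih
      linarith
    · have h1 : (n + 1) / 2 = k + 1 := by omega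
      have h2 : n / 2 = k := by omega
      have h3 : padicValNat 2 (n + 1) = 1 + padicValNat 2 (k + 1) := by
        rw [show n + 1 = 2 * (k + 1) by omega, padicValNat.mul (by omega) (by omega),
          padicValNat.self one_lt_two]
      have h4 : padicValNat 2 (q ^ (n + 1) - 1) =
          padicValNat 2 (q ^ 2 - 1) + padicValNat 2 (k + 1) := by
        rw [show n + 1 = 2 * (k + 1) by omega, WreathAb.val_pow_even hq hq1 (by omega)]
      rw [hs, hf, h1, h3, h4]
      rw [h2] at ih
      linarith

theorem val_sq_sub_one : padicValNat 2 (q ^ 2 - 1) =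
    padicValNat 2 (q - 1) + padicValNat 2 (q + 1) := by
  rw [← one_pow 2, Nat.sq_sub_sq, padicValNat.mul (by omega) (by omega), add_comm]
  simp

theorem glv_one : glv q 1 = padicValNat 2 (q - 1) := by simp [glv]

theorem glv_two : glv q 2 = padicValNat 2 (q - 1) + padicValNat 2 (q ^ 2 - 1) := by
  have h := glv_eq hq hq1 2
  simp [padicValNat.self] at h
  omega

theorem one_mod_four (h : q % 4 = 1) (n : ℕ) :
    n * glv q 1 + padicValNat 2 n.factorial + glv q 0 = glv q (1 * n + 0) := by
  have h1 : padicValNat 2 (q + 1) = 1 := by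
    obtain ⟨r, hr⟩ : ∃ r, q + 1 = 2 * r := ⟨(q + 1) / 2, by omega⟩
    rw [hr, padicValNat.mul (by omega) (by omega), padicValNat.self one_lt_two,
      padicValNat.eq_zero_of_not_dvd (by omega)]
  have h2 := glv_eq hq hq1 n
  rw [val_sq_sub_one hq hq1, h1] at h2
  rw [glv_one hq hq1, one_mul, add_zero, show glv q 0 = 0 by simp [glv], add_zero]
  omega

theorem pairs (m δ : ℕ) (hδ : δ ≤ 1) :
    m * glv q 2 + padicValNat 2 m.factorial + glv q δ = glv q (2 * m + δ) := by
  have hfac : padicValNat 2 (2 * m + δ).factorial = padicValNat 2 m.factorial + m := by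
    rw [padicValNat_factorial_mul_add (p := 2) m (show δ < 2 by omega),
      padicValNat_factorial_mul (p := 2) m]
  have h2 := glv_eq hq hq1 (2 * m + δ)
  rw [hfac, show (2 * m + δ) / 2 = m by omega] at h2
  rw [glv_two hq hq1]
  interval_cases δ
  · rw [show glv q 0 = 0 by simp [glv]]
    linarith
  · rw [glv_one hq hq1]
    linarith

theorem three_mod_four (h : q % 4 = 3) {n k : ℕ} (hk : 2 ≤ k) (hkn : k ≤ n) :
    k * padicValNat 2 (q - 1) + padicValNat 2 k.factorial + glv q (n - k) < glv q n := by
  have h1 : 2 ≤ padicValNat 2 (q + 1) :=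
    (padicValNat_dvd_iff_le (p := 2) (by omega)).mp (by omega)
  have hd : padicValNat 2 (k.factorial * (n - k).factorial) ≤ padicValNat 2 n.factorial :=
    (padicValNat_dvd_iff_le (p := 2) (Nat.factorial_ne_zero n)).mp
      (pow_padicValNat_dvd.trans (Nat.factorial_mul_factorial_dvd_factorial hkn))
  rw [padicValNat.mul (Nat.factorial_ne_zero _) (Nat.factorial_ne_zero _)] at hd
  have h2 := glv_eq hq hq1 n
  have h3 := glv_eq hq hq1 (n - k)
  rw [val_sq_sub_one hq hq1] at h2 h3
  have hN : (n - k) / 2 < n / 2 := by omega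
  have h4 : (n - k) * padicValNat 2 (q - 1) + k * padicValNat 2 (q - 1) =
      n * padicValNat 2 (q - 1) := by rw [← add_mul, Nat.sub_add_cancel hkn]
  nlinarith

omit hq hq1

theorem val_card_GL {F : Type*} [Field F] [Finite F] (hF : Odd (Nat.card F)) (n : ℕ) :
    (Nat.card (GL (Fin n) F)).factorization 2 = glv (Nat.card F) n := by
  have hq1 : 1 < Nat.card F := Finite.one_lt_card
  have hne : ∏ i ∈ range n, (Nat.card F ^ (i + 1) - 1) ≠ 0 :=
    prod_ne_zero_iff.mpr fun j _ => by
      have := Nat.one_lt_pow (show j + 1 ≠ 0 by omega) hq1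
      omega
  rw [Nat.factorization_def _ Nat.prime_two, GLOrder.card_GL',
    padicValNat.mul (pow_ne_zero _ (by omega)) hne, padicValNat.pow,
    padicValNat.eq_zero_of_not_dvd (fun h => (Nat.not_even_iff_odd.mpr hF)
      (even_iff_two_dvd.mpr h)), mul_zero, zero_add, glv]

end Cfsg.Agent.GLNormalTwoRank
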