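/-
A large normal sign group in a Sylow 2-subgroup of `GL_n(q)`.
-/
import Cfsg.Agent.EqLemmas
import Cfsg.Agent.Lib.GLNormalTwoRank.Val
import Mathlib.LinearAlgebra.Matrix.Permutation
import Cfsg.Prelude.Def_Transfer

set_option autoImplicit false

namespace Cfsg.Agent.GLNormalTwoRank

open Matrix Equiv

section Transfer

variable {H G : Type*} [Group H] [Group G] [Finite G]

/-- A normal elementary subgroup of a group of full 2-part yields one in every Sylow subgroup. -/
theorem exists_normal_in_sylow (f : H →* G) (hf : Function.Injective f)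
    (hv : (Nat.card H).factorization 2 = (Nat.card G).factorization 2)
    (E : Subgroup H) (hn : E.Normal) (he : Cfsg.IsElementaryAbelian 2 E) (S : Sylow 2 G) :
    ∃ E' : Subgroup ↥(S : Subgroup G),
      E'.Normal ∧ Cfsg.IsElementaryAbelian 2 E' ∧ Nat.card E' = Nat.card E := by
  haveI : Fact (Nat.Prime 2) := ⟨Nat.prime_two⟩
  haveI : Finite H := Finite.of_injective f hf
  have hEp : IsPGroup 2 E := fun x => ⟨1, Subtype.ext (by simpa using he.2 x x.2)⟩
  obtain ⟨P, hEP⟩ := hEp.exists_le_sylow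
  have hPc : Nat.card ((P : Subgroup H).map f) = 2 ^ (Nat.card G).factorization 2 := by
    rw [Subgroup.card_map_of_injective hf, Sylow.card_eq_multiplicity, hv]
  obtain ⟨g, rfl⟩ := MulAction.exists_smul_eq G (Sylow.ofCard _ hPc) S
  let c : H →* G := (MulAut.conj g).toMonoidHom.comp f
  have hc : Function.Injective c := (MulAut.conj g).injective.comp hf
  have hS : ((g • Sylow.ofCard ((P : Subgroup H).map f) hPc : Sylow 2 G) : Subgroup G) =
      (P : Subgroup H).map c := by
    rw [← Subgroup.map_map]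
    rfl
  rw [hS]
  refine ⟨(E.map c).subgroupOf ((P : Subgroup H).map c), ⟨?_⟩, ⟨⟨⟨?_⟩⟩, ?_⟩, ?_⟩
  · rintro ⟨x, hx⟩ hxE ⟨y, hy⟩
    obtain ⟨a, haP, rfl⟩ := hy
    rw [Subgroup.mem_subgroupOf] at hxE
    obtain ⟨e, he', rfl⟩ := hxE
    rw [Subgroup.mem_subgroupOf]
    exact ⟨a * e * a⁻¹, hn.conj_mem e he' a, by simp⟩
  · rintro ⟨⟨x, hx⟩, hxE⟩ ⟨⟨y, hy⟩, hyE⟩
    rw [Subgroup.mem_subgroupOf] at hxE hyE
    obtain ⟨a, ha, rfl⟩ := hxE
    obtain ⟨b, hb, rfl⟩ := hyE
    haveI := he.1
    have hab : a * b = b * a :=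
      congrArg Subtype.val (IsMulCommutative.is_comm.comm (⟨a, ha⟩ : E) ⟨b, hb⟩)
    refine Subtype.ext (Subtype.ext ?_)
    show c a * c b = c b * c a
    rw [← map_mul, hab, map_mul]
  · rintro ⟨x, hx⟩ hxE
    rw [Subgroup.mem_subgroupOf] at hxE
    obtain ⟨a, ha, rfl⟩ := hxE
    refine Subtype.ext ?_
    show c a ^ 2 = 1
    rw [← map_pow, he.2 a ha, map_one]
  · rw [Nat.card_congr (Subgroup.subgroupOfEquivOfLe (Subgroup.map_mono hEP)).toEquiv,
      Subgroup.card_map_of_injective hc]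

end Transfer

section Blocks

variable (F : Type*) [Field F] (b m δ : ℕ)

/-- Indices. -/
abbrev Idx : Type := (Fin b × Fin m) ⊕ Fin δ

/-- The colour of an index. -/
def colour : Idx b m δ → Fin m ⊕ Fin δ := Sum.map Prod.snd id

/-- `GL_b^m × GL_δ`. -/
def baseHom : ((Fin m → GL (Fin b) F) × GL (Fin δ) F) →* GL (Idx b m δ) F :=
  MonoidHom.toHomUnits
    { toFun := fun x => fromBlocks
        (blockDiagonal fun i => ((x.1 i : GL (Fin b) F) : Matrix (Fin b) (Fin b) F))
        0 0 (x.2 : Matrix (Fin δ) (Fin δ) F)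
      map_one' := by
        simp only [Prod.fst_one, Prod.snd_one, Pi.one_apply, Units.val_one]
        rw [show (fun _ : Fin m => (1 : Matrix (Fin b) (Fin b) F)) = 1 from rfl,
          blockDiagonal_one, fromBlocks_one]
      map_mul' := fun x y => by
        simp only [Prod.fst_mul, Prod.snd_mul, Pi.mul_apply, Units.val_mul, fromBlocks_multiply,
          Matrix.mul_zero, Matrix.zero_mul, add_zero, zero_add, blockDiagonal_mul] }

/-- The index permutation induced by a block permutation. -/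
def idxPerm : Perm (Fin m) →* Perm (Idx b m δ) :=
  MonoidHom.mk' (fun w => Equiv.sumCongr (Equiv.prodCongrRight fun _ => w) (Equiv.refl _))
    (fun _ _ => Equiv.ext fun x => by rcases x with x | x <;> rfl)

/-- Block permutations. -/
def permHom : Perm (Fin m) →* GL (Idx b m δ) F :=
  ((Matrix.permMatrixHom (n := Idx b m δ) (R := F)).comp (idxPerm b m δ)).toHomUnits

/-- Signs. -/
def signHom : (Fin m ⊕ Fin δ → ℤˣ) →* GL (Idx b m δ) F :=
  MonoidHom.toHomUnits
    { toFun := fun s => diagonal fun i => (((s (colour b m δ i) : ℤ)) : F)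
      map_one' := by simp
      map_mul' := fun s t => by simp [diagonal_mul_diagonal] }

variable {F b m δ}

theorem base_sign_comm (hδ : δ ≤ 1) (x : (Fin m → GL (Fin b) F) × GL (Fin δ) F)
    (s : Fin m ⊕ Fin δ → ℤˣ) :
    baseHom F b m δ x * signHom F b m δ s = signHom F b m δ s * baseHom F b m δ x := by
  refine Units.ext (Matrix.ext fun i j => ?_)
  simp only [Units.val_mul, signHom, MonoidHom.coe_toHomUnits, MonoidHom.coe_mk, OneHom.coe_mk,
    mul_diagonal, diagonal_mul, baseHom]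
  rcases i with ⟨a, i⟩ | i <;> rcases j with ⟨c, j⟩ | j
  · by_cases h : i = j
    · subst h; simp [colour, mul_comm]
    · simp [blockDiagonal_apply, h]
  · simp
  · simp
  · have h : i = j := Fin.ext (by omega)
    subst h
    simp [colour, mul_comm]

theorem perm_matrix_eq (w : Perm (Fin m)) :
    ((permHom F b m δ w : GL (Idx b m δ) F) : Matrix (Idx b m δ) (Idx b m δ) F) =
      (idxPerm b m δ w)⁻¹.toPEquiv.toMatrix := rfl

theorem perm_sign (w : Perm (Fin m)) (s : Fin m ⊕ Fin δ → ℤˣ) :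
    permHom F b m δ w * signHom F b m δ s =
      signHom F b m δ (s ∘ Sum.map (⇑w⁻¹) id) * permHom F b m δ w := by
  refine Units.ext (Matrix.ext fun i j => ?_)
  simp only [Units.val_mul, perm_matrix_eq, signHom, MonoidHom.coe_toHomUnits, MonoidHom.coe_mk,
    OneHom.coe_mk, mul_diagonal, diagonal_mul, PEquiv.toMatrix_apply, Equiv.toPEquiv_apply,
    Option.mem_some_iff]
  by_cases h : (idxPerm b m δ w)⁻¹ i = j
  · subst h
    rw [if_pos rfl, one_mul, mul_one, ← map_inv]
    congr 3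
    rcases i with ⟨a, i⟩ | i <;> rfl
  · rw [if_neg h, zero_mul, mul_zero]

theorem perm_base (w : Perm (Fin m)) (x : (Fin m → GL (Fin b) F) × GL (Fin δ) F) :
    permHom F b m δ w * baseHom F b m δ x =
      baseHom F b m δ (fun i => x.1 (w⁻¹ i), x.2) * permHom F b m δ w := by
  refine Units.ext ?_
  rw [Units.val_mul, Units.val_mul, perm_matrix_eq, PEquiv.toMatrix_toPEquiv_mul,
    PEquiv.mul_toMatrix_toPEquiv]
  ext i j
  simp only [Matrix.submatrix_apply, id_eq, Equiv.Perm.inv_def, Equiv.symm_symm, baseHom,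
    MonoidHom.coe_toHomUnits, MonoidHom.coe_mk, OneHom.coe_mk]
  rcases i with ⟨a, i⟩ | i <;> rcases j with ⟨c, j⟩ | j <;>
    simp [idxPerm, blockDiagonal_apply, Equiv.symm_apply_eq]

theorem base_injective : Function.Injective (baseHom F b m δ) := by
  intro x y h
  have h' := congrArg Units.val h
  simp only [baseHom, MonoidHom.coe_toHomUnits, MonoidHom.coe_mk, OneHom.coe_mk] at h'
  rw [fromBlocks_inj] at h'
  refine Prod.ext (funext fun i => Units.ext ?_) (Units.ext h'.2.2.2)
  exact congrFun (blockDiagonal_injective h'.1) i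

theorem perm_injective (hb : 1 ≤ b) : Function.Injective (permHom F b m δ) := by
  intro v w h
  refine Equiv.ext fun i => ?_
  have h' := congrArg (fun u : GL (Idx b m δ) F => (u : Matrix (Idx b m δ) (Idx b m δ) F)
    (Sum.inl (⟨0, hb⟩, v i)) (Sum.inl (⟨0, hb⟩, i))) h
  simp [perm_matrix_eq, ← map_inv, idxPerm, PEquiv.toMatrix_apply] at h'
  exact ((Equiv.symm_apply_eq _).mp h').symm ▸ rfl

theorem eq_one_of_base_eq_perm (hb : 1 ≤ b) (x : (Fin m → GL (Fin b) F) × GL (Fin δ) F)
    (w : Perm (Fin m)) (h : baseHom F b m δ x = permHom F b m δ w) : w = 1 := by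
  haveI : Nonempty (Fin b) := ⟨⟨0, hb⟩⟩
  ext i : 1
  by_contra hne
  have hz : ((x.1 (w i) : GL (Fin b) F) : Matrix (Fin b) (Fin b) F) = 0 := by
    ext a c
    have h' := congrArg (fun u : GL (Idx b m δ) F => (u : Matrix (Idx b m δ) (Idx b m δ) F)
      (Sum.inl (a, w i)) (Sum.inl (c, w i))) h
    simp only [perm_matrix_eq, baseHom, MonoidHom.coe_toHomUnits, MonoidHom.coe_mk, OneHom.coe_mk,
      fromBlocks_apply₁₁, blockDiagonal_apply_eq] at h'
    rw [h', PEquiv.toMatrix_apply, if_neg]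
    · rfl
    · simp only [Equiv.toPEquiv_apply, Option.mem_some_iff, ← map_inv]
      intro hm
      simp [idxPerm] at hm
      exact hne hm.2.symm
  exact Units.ne_zero _ hz

theorem sign_injective (h2 : (2 : F) ≠ 0) (hb : 1 ≤ b) :
    Function.Injective (signHom F b m δ) := by
  intro s t h
  funext c
  have hcol : ∃ i, colour b m δ i = c := by
    rcases c with i | i
    · exact ⟨Sum.inl (⟨0, hb⟩, i), rfl⟩
    · exact ⟨Sum.inr i, rfl⟩
  obtain ⟨i, rfl⟩ := hcol
  have h' := congrArg (fun u : GL (Idx b m δ) F => (u : Matrix (Idx b m δ) (Idx b m δ) F) i i) h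
  simp only [signHom, MonoidHom.coe_toHomUnits, MonoidHom.coe_mk, OneHom.coe_mk,
    diagonal_apply_eq] at h'
  have hne : (1 : F) ≠ -1 := fun e => h2 (by rw [← one_add_one_eq_two]; nth_rw 2 [e]; simp)
  rcases Int.units_eq_one_or (s (colour b m δ i)) with a | a <;>
    rcases Int.units_eq_one_or (t (colour b m δ i)) with c | c <;> rw [a, c] at h' ⊢ <;>
    simp at h'
  · exact absurd h' hne
  · exact absurd h'.symm hne

theorem sign_mem_base (s : Fin m ⊕ Fin δ → ℤˣ) :
    signHom F b m δ s ∈ (baseHom F b m δ).range := by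
  refine ⟨(fun i => Units.map (Matrix.scalar (Fin b)).toMonoidHom
      (Units.map (Int.castRingHom F).toMonoidHom (s (Sum.inl i))),
    MonoidHom.toHomUnits
      { toFun := fun t : Fin m ⊕ Fin δ → ℤˣ => diagonal fun i => (((t (Sum.inr i) : ℤ)) : F)
        map_one' := by simp
        map_mul' := fun _ _ => by simp [diagonal_mul_diagonal] } s), ?_⟩
  refine Units.ext (Matrix.ext fun i j => ?_)
  simp only [signHom, baseHom, MonoidHom.coe_toHomUnits, MonoidHom.coe_mk, OneHom.coe_mk]
  rcases i with ⟨a, i⟩ | i <;> rcases j with ⟨c, j⟩ | j <;>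
    simp [blockDiagonal_apply, diagonal_apply, colour, Matrix.scalar_apply]
  by_cases h : i = j <;> by_cases h' : a = c <;> simp [h, h', Matrix.intCast_apply]

variable [Finite F]

theorem exists_normal_sign (hF : Odd (Nat.card F)) (h2 : (2 : F) ≠ 0) {n : ℕ} (hb : 1 ≤ b)
    (hδ : δ ≤ 1) (hn : b * m + δ = n)
    (hv : m * glv (Nat.card F) b + padicValNat 2 m.factorial + glv (Nat.card F) δ =
      glv (Nat.card F) n) (S : Sylow 2 (GL (Fin n) F)) :
    ∃ E : Subgroup ↥(S : Subgroup (GL (Fin n) F)),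
      E.Normal ∧ Cfsg.IsElementaryAbelian 2 E ∧ Nat.card E = 2 ^ (m + δ) := by
  classical
  let K := (baseHom F b m δ).range
  let P := (permHom F b m δ).range
  let E := (signHom F b m δ).range
  have hPK : P ≤ Subgroup.normalizer (K : Set (GL (Idx b m δ) F)) := by
    rintro _ ⟨w, rfl⟩
    rw [Subgroup.mem_normalizer_iff]
    intro h
    constructor
    · rintro ⟨x, rfl⟩
      exact ⟨(fun i => x.1 (w⁻¹ i), x.2), eq_mul_inv_of_mul_eq (perm_base w x).symm⟩
    · rintro ⟨x, hx⟩
      refine ⟨(fun i => x.1 ((w⁻¹)⁻¹ i), x.2), ?_⟩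
      refine (eq_mul_inv_of_mul_eq (perm_base w⁻¹ x).symm).trans ?_
      rw [hx, map_inv]
      group
  have hKE : K ≤ Subgroup.normalizer (E : Set (GL (Idx b m δ) F)) := by
    rintro _ ⟨x, rfl⟩
    rw [Subgroup.mem_normalizer_iff]
    intro h
    constructor
    · rintro ⟨s, rfl⟩
      exact ⟨s, eq_mul_inv_of_mul_eq (base_sign_comm hδ x s).symm⟩
    · rintro ⟨s, hs⟩
      refine ⟨s, ?_⟩
      refine (eq_mul_inv_of_mul_eq (base_sign_comm hδ x⁻¹ s).symm).trans ?_
      rw [hs, map_inv]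
      group
  have hPE : P ≤ Subgroup.normalizer (E : Set (GL (Idx b m δ) F)) := by
    rintro _ ⟨w, rfl⟩
    rw [Subgroup.mem_normalizer_iff]
    intro h
    constructor
    · rintro ⟨s, rfl⟩
      exact ⟨s ∘ Sum.map (⇑w⁻¹) id, eq_mul_inv_of_mul_eq (perm_sign w s).symm⟩
    · rintro ⟨s, hs⟩
      refine ⟨s ∘ Sum.map (⇑(w⁻¹)⁻¹) id, ?_⟩
      refine (eq_mul_inv_of_mul_eq (perm_sign w⁻¹ s).symm).trans ?_
      rw [hs, map_inv]
      group
  have hdis : Disjoint K P := by
    rw [Subgroup.disjoint_def]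
    rintro _ ⟨x, rfl⟩ ⟨w, hw⟩
    rw [← hw, eq_one_of_base_eq_perm hb x w hw.symm, map_one]
  have hL : Nat.card ↥(K ⊔ P) = Nat.card K * Nat.card P := by
    rw [← Nat.card_prod]
    exact Nat.card_congr ((Equiv.setCongr (Subgroup.coe_mul_of_right_le_normalizer_left K P hPK)).trans
      ((Equiv.setCongr Set.image2_mul.symm).trans
        (Equiv.ofBijective (fun p : K × P => (⟨(p.1 : GL (Idx b m δ) F) * p.2,
            Set.mem_image2_of_mem p.1.2 p.2.2⟩ : ↥(Set.image2 (· * ·) (K : Set (GL (Idx b m δ) F)) P)))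
          ⟨fun p q h => Subgroup.mul_injective_of_disjoint hdis (congrArg Subtype.val h),
            fun ⟨z, hz⟩ => by
              obtain ⟨x, hx, y, hy, rfl⟩ := hz
              exact ⟨(⟨x, hx⟩, ⟨y, hy⟩), rfl⟩⟩).symm))
  have hEL : E ≤ K ⊔ P := by
    rintro _ ⟨s, rfl⟩
    exact Subgroup.mem_sup_left (sign_mem_base s)
  have hEc : Nat.card E = 2 ^ (m + δ) := by
    rw [Nat.card_congr (MonoidHom.ofInjective (sign_injective h2 hb)).toEquiv.symm, Nat.card_fun,
      Nat.card_sum, Nat.card_fin, Nat.card_fin, Nat.card_eq_fintype_card (α := ℤˣ),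
      Fintype.card_units_int]
  have e : Idx b m δ ≃ Fin n :=
    Fintype.equivFinOfCardEq (by simp [Fintype.card_sum, Fintype.card_prod, hn])
  let θ : GL (Idx b m δ) F ≃* GL (Fin n) F :=
    Units.mapEquiv (Matrix.reindexAlgEquiv F F e).toMulEquiv
  have hcard : (Nat.card ↥(K ⊔ P)).factorization 2 =
      (Nat.card (GL (Fin n) F)).factorization 2 := by
    rw [hL, Nat.card_congr (MonoidHom.ofInjective base_injective).toEquiv.symm,
      Nat.card_congr (MonoidHom.ofInjective (perm_injective hb)).toEquiv.symm, Nat.card_prod,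
      Nat.card_fun, Nat.card_perm, Nat.card_fin, val_card_GL hF, ← hv,
      Nat.factorization_mul (mul_ne_zero (pow_ne_zero _ Nat.card_pos.ne') Nat.card_pos.ne')
        (Nat.factorial_ne_zero m),
      Nat.factorization_mul (pow_ne_zero _ Nat.card_pos.ne') Nat.card_pos.ne',
      Nat.factorization_pow]
    simp only [Finsupp.coe_add, Pi.add_apply, Finsupp.coe_smul, Pi.smul_apply, smul_eq_mul,
      val_card_GL hF]
    rw [Nat.factorization_def _ Nat.prime_two]
    ring
  obtain ⟨E', h1, h2', h3⟩ := exists_normal_in_sylow (θ.toMonoidHom.comp (K ⊔ P).subtype)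
    (θ.injective.comp (K ⊔ P).subtype_injective) hcard (E.subgroupOf (K ⊔ P))
    (Subgroup.normal_subgroupOf_of_le_normalizer (sup_le hKE hPE))
    ⟨⟨⟨by
      rintro ⟨⟨x, hx⟩, hxE⟩ ⟨⟨y, hy⟩, hyE⟩
      rw [Subgroup.mem_subgroupOf] at hxE hyE
      obtain ⟨s, rfl⟩ := hxE
      obtain ⟨t, rfl⟩ := hyE
      refine Subtype.ext (Subtype.ext ?_)
      show signHom F b m δ s * signHom F b m δ t = signHom F b m δ t * signHom F b m δ s
      rw [← map_mul, mul_comm, map_mul]⟩⟩, by
      rintro ⟨x, hx⟩ hxE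
      rw [Subgroup.mem_subgroupOf] at hxE
      obtain ⟨s, rfl⟩ := hxE
      refine Subtype.ext ?_
      show signHom F b m δ s ^ 2 = 1
      rw [← map_pow, show s ^ 2 = 1 from funext fun i => Int.units_sq _, map_one]⟩ S
  refine ⟨E', h1, h2', h3.trans ?_⟩
  rw [Nat.card_congr (Subgroup.subgroupOfEquivOfLe hEL).toEquiv, hEc]

end Blocks

end Cfsg.Agent.GLNormalTwoRank
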