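/-
A Sylow 2-subgroup of `GL_n(q)` normalises no diagonal sign group of rank above `n`
(respectively `(n + 1) / 2` when `q ≡ 3 mod 4`).
-/
import Cfsg.Agent.EqLemmas
import Cfsg.Agent.Lib.GLNormalTwoRank.Val
import Cfsg.Agent.Lib.GLNormalTwoRank.Diag

set_option autoImplicit false

namespace Cfsg.Agent.GLNormalTwoRank

open Matrix

section Mono

variable {F : Type*} [Field F] {n : ℕ}

theorem exists_perm_ne_zero (g : GL (Fin n) F) :
    ∃ π : Equiv.Perm (Fin n), ∀ j, (g : Matrix (Fin n) (Fin n) F) (π j) j ≠ 0 := by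
  by_contra hcon
  push Not at hcon
  apply ((Matrix.isUnit_iff_isUnit_det _).mp g.isUnit).ne_zero
  rw [Matrix.det_apply]
  refine Finset.sum_eq_zero fun π _ => ?_
  obtain ⟨j, hj⟩ := hcon π
  have h0 : ∏ i, (g : Matrix (Fin n) (Fin n) F) (π i) i = 0 :=
    Finset.prod_eq_zero (Finset.mem_univ j) hj
  exact (congrArg _ h0).trans (smul_zero _)

/-- An element normalising a diagonal group maps its singleton colour classes to singleton ones. -/
theorem support_singleton (E : Subgroup (GL (Fin n) F))
    (hd : ∀ e ∈ E, (e : Matrix (Fin n) (Fin n) F).IsDiag) (g : GL (Fin n) F)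
    (hg : ∀ e ∈ E, g⁻¹ * e * g ∈ E ∧ g * e * g⁻¹ ∈ E) (T : Finset (Fin n))
    (hT : ∀ j, j ∈ T ↔ ∀ i, (∀ e ∈ E, (e : Matrix (Fin n) (Fin n) F) i i =
      (e : Matrix (Fin n) (Fin n) F) j j) → i = j) :
    ∃ π : Equiv.Perm (Fin n), (∀ j, π j ∈ T ↔ j ∈ T) ∧
      ∀ i j, (g : Matrix (Fin n) (Fin n) F) i j ≠ 0 →
        (i ∈ T ↔ j ∈ T) ∧ (j ∈ T → i = π j) := by
  let r : Fin n → Fin n → Prop := fun i j =>
    ∀ e ∈ E, (e : Matrix (Fin n) (Fin n) F) i i = (e : Matrix (Fin n) (Fin n) F) j j
  obtain ⟨π, hπ⟩ := exists_perm_ne_zero g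
  have hrel : ∀ i j, (g : Matrix (Fin n) (Fin n) F) i j ≠ 0 → ∀ e ∈ E,
      (e : Matrix (Fin n) (Fin n) F) i i =
        ((g⁻¹ * e * g : GL (Fin n) F) : Matrix (Fin n) (Fin n) F) j j := by
    intro i j hij e he
    have h := congrArg (fun u : GL (Fin n) F => (u : Matrix (Fin n) (Fin n) F) i j)
      (show e * g = g * (g⁻¹ * e * g) by group)
    simp only [Units.val_mul] at h
    rw [← (hd e he).diagonal_diag, diagonal_mul,
      show (↑g⁻¹ : Matrix (Fin n) (Fin n) F) * diagonal (diag (e : Matrix (Fin n) (Fin n) F)) * ↑g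
        = diagonal (diag ((g⁻¹ * e * g : GL (Fin n) F) : Matrix (Fin n) (Fin n) F)) by
        rw [(hd e he).diagonal_diag, (hd _ (hg e he).1).diagonal_diag, Units.val_mul,
          Units.val_mul], mul_diagonal, mul_comm] at h
    exact mul_left_cancel₀ hij h
  have hπr : ∀ i j, r (π i) (π j) ↔ r i j := by
    intro i j
    constructor
    · intro h e he
      have h' := h _ (hg e he).2
      rwa [hrel _ _ (hπ i) _ (hg e he).2, hrel _ _ (hπ j) _ (hg e he).2,
        show g⁻¹ * (g * e * g⁻¹) * g = e by group] at h'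
    · intro h e he
      rw [hrel _ _ (hπ i) _ he, hrel _ _ (hπ j) _ he]
      exact h _ (hg e he).1
  have hT' : ∀ j, π j ∈ T ↔ j ∈ T := by
    intro j
    rw [hT, hT]
    constructor
    · intro h i hi
      exact π.injective (h (π i) ((hπr i j).mpr hi))
    · intro h i hi
      obtain ⟨k, rfl⟩ := π.surjective i
      rw [h k ((hπr k j).mp hi)]
  refine ⟨π, hT', fun i j hij => ?_⟩
  have hri : r i (π j) := fun e he => by rw [hrel i j hij e he, hrel _ j (hπ j) e he]
  constructor
  · constructor
    · intro hi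
      rw [← hT', (hT i).mp hi (π j) (fun e he => (hri e he).symm)]
      exact hi
    · intro hj
      rw [(hT (π j)).mp ((hT' j).mpr hj) i hri]
      exact (hT' j).mpr hj
  · intro hj
    exact (hT (π j)).mp ((hT' j).mpr hj) i hri

variable [Finite F]

theorem card_dvd_block_monomial (S : Subgroup (GL (Fin n) F)) (T : Finset (Fin n))
    (hS : ∀ g ∈ S, ∃ π : Equiv.Perm (Fin n), (∀ j, π j ∈ T ↔ j ∈ T) ∧
      ∀ i j, (g : Matrix (Fin n) (Fin n) F) i j ≠ 0 →
        (i ∈ T ↔ j ∈ T) ∧ (j ∈ T → i = π j)) :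
    Nat.card S ∣
      T.card.factorial * (Nat.card Fˣ ^ T.card * Nat.card (GL (Fin (n - T.card)) F)) := by
  classical
  choose π hπ hsupp using fun g : S => hS g.1 g.2
  let M : S → Matrix (Fin n) (Fin n) F := fun g => ((g : GL (Fin n) F) : Matrix _ _ F)
  have hmul : ∀ g h : S, M (g * h) = M g * M h := fun g h => rfl
  have hcol : ∀ (g : S) (i j : Fin n), j ∈ T → M g i j ≠ 0 → i = π g j :=
    fun g i j hj h => (hsupp g i j h).2 hj
  have hnz : ∀ (g : S) (j : Fin n), j ∈ T → M g (π g j) j ≠ 0 := by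
    intro g j hj h0
    apply ((Matrix.isUnit_iff_isUnit_det _).mp (g : GL (Fin n) F).isUnit).ne_zero
    refine Matrix.det_eq_zero_of_column_eq_zero j fun i => ?_
    by_contra hne
    rw [hcol g i j hj hne] at hne
    exact hne h0
  have hhom : ∀ (g h : S) (j : Fin n), j ∈ T → π (g * h) j = π g (π h j) := by
    intro g h j hj
    have he : M (g * h) (π (g * h) j) j = M g (π (g * h) j) (π h j) * M h (π h j) j := by
      rw [hmul, Matrix.mul_apply]
      refine Finset.sum_eq_single _ (fun l _ hl => ?_) (by simp)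
      by_contra hne
      exact hl (hcol h l j hj (right_ne_zero_of_mul hne))
    exact hcol g _ _ ((hπ h j).mpr hj) (left_ne_zero_of_mul (he ▸ hnz (g * h) j hj))
  let ψ : S →* Equiv.Perm {j // j ∈ T} := MonoidHom.mk'
    (fun g => (π g).subtypePerm (hπ g))
    (fun g h => Equiv.ext fun j => Subtype.ext (hhom g h j j.2))
  have hker : ∀ k : ψ.ker, ∀ j ∈ T, π (k : S) j = j := by
    intro k j hj
    have h := congrArg (fun p : Equiv.Perm {j // j ∈ T} => ((p ⟨j, hj⟩ : {j // j ∈ T}) : Fin n))
      (MonoidHom.mem_ker.mp k.2)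
    exact h
  let P := Matrix {j // j ∉ T} {j // j ∉ T} F
  have hoff : ∀ (k : ψ.ker) (i j : Fin n), (i ∈ T ∨ j ∈ T) → i ≠ j → M k.1 i j = 0 := by
    intro k i j hij hne
    by_contra h
    have h' := hsupp (k : S) i j h
    have hj : j ∈ T := hij.elim (fun hi => h'.1.mp hi) id
    exact hne ((h'.2 hj).trans (hker k j hj))
  let φ : ψ.ker →* ({j // j ∈ T} → F) × P :=
    { toFun := fun k => (fun j => M k.1 j j, (M k.1).submatrix Subtype.val Subtype.val)
      map_one' := by
        refine Prod.ext (funext fun j => ?_) ?_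
        · show (1 : Matrix (Fin n) (Fin n) F) j j = 1
          simp
        · show (1 : Matrix (Fin n) (Fin n) F).submatrix Subtype.val Subtype.val = 1
          exact Matrix.submatrix_one _ Subtype.val_injective
      map_mul' := fun k l => by
        refine Prod.ext (funext fun j => ?_) (Matrix.ext fun i j => ?_)
        · show M (k.1 * l.1) j j = M k.1 j j * M l.1 j j
          rw [hmul, Matrix.mul_apply]
          refine Finset.sum_eq_single _ (fun x _ hx => ?_) (by simp)
          rw [hoff l x j (Or.inr j.2) hx, mul_zero]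
        · show M (k.1 * l.1) i j = ∑ x : {j // j ∉ T}, M k.1 i x * M l.1 x j
          rw [hmul, Matrix.mul_apply, ← Fintype.sum_subtype_add_sum_subtype (fun x => x ∈ T)
            (fun x => M k.1 i x * M l.1 x j), add_eq_right]
          refine Finset.sum_eq_zero fun x _ => ?_
          rw [hoff k i x (Or.inr x.2) (fun h => i.2 (h ▸ x.2)), zero_mul] }
  have hinj : Function.Injective φ := by
    intro k l h
    refine Subtype.ext (Subtype.ext (Units.ext (Matrix.ext fun i j => ?_)))
    show M k.1 i j = M l.1 i j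
    by_cases hd : i ∈ T ∨ j ∈ T
    · by_cases he : i = j
      · subst he
        exact congrFun (congrArg Prod.fst h) ⟨i, by tauto⟩
      · rw [hoff k i j hd he, hoff l i j hd he]
    · rw [not_or] at hd
      exact congrFun (congrFun (congrArg Prod.snd h) ⟨i, hd.1⟩) ⟨j, hd.2⟩
  have hinj' : Function.Injective φ.toHomUnits := fun k l h => hinj (congrArg Units.val h)
  have h1 := Subgroup.card_dvd_of_injective _ hinj'
  have h2 : Nat.card ψ.range ∣ T.card.factorial := by
    refine (Subgroup.card_subgroup_dvd_card ψ.range).trans ?_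
    rw [Nat.card_perm, Nat.card_eq_fintype_card, Fintype.card_coe]
  have h3 : Nat.card (({j // j ∈ T} → F) × P)ˣ =
      Nat.card Fˣ ^ T.card * Nat.card (GL (Fin (n - T.card)) F) := by
    have hc : Fintype.card {j // j ∉ T} = n - T.card := by
      rw [Fintype.card_subtype_compl, Fintype.card_fin, Fintype.card_coe]
    rw [Nat.card_congr MulEquiv.prodUnits.toEquiv, Nat.card_prod,
      Nat.card_congr MulEquiv.piUnits.toEquiv, Nat.card_fun,
      Nat.card_eq_fintype_card (α := {j // j ∈ T}), Fintype.card_coe]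
    congr 1
    exact Nat.card_congr (Units.mapEquiv (Matrix.reindexAlgEquiv F F
      (Fintype.equivFinOfCardEq hc)).toMulEquiv).toEquiv
  have h4 : Nat.card S = Nat.card ψ.range * Nat.card ψ.ker := by
    rw [← Subgroup.index_ker, Subgroup.index_mul_card]
  rw [h4]
  exact Nat.mul_dvd_mul h2 (h3 ▸ h1)

end Mono

section Count

theorem two_mul_card_image_le {α β : Type*} [Fintype α] [DecidableEq β] (f : α → β)
    (T : Finset α) (hT : ∀ a, (∀ b, f b = f a → b = a) → a ∈ T) :
    2 * (Finset.univ.image f).card ≤ Fintype.card α + T.card := by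
  classical
  have h1 : Fintype.card α =
      ∑ x ∈ Finset.univ.image f, (Finset.univ.filter fun a => f a = x).card :=
    Finset.card_eq_sum_card_fiberwise (fun a _ => Finset.mem_image_of_mem f (Finset.mem_univ a))
  have h2 : (T.card : ℕ) = ∑ x ∈ Finset.univ.image f, (T.filter fun a => f a = x).card :=
    Finset.card_eq_sum_card_fiberwise (fun a _ => Finset.mem_image_of_mem f (Finset.mem_univ a))
  rw [h1, h2, ← Finset.sum_add_distrib, mul_comm, ← Finset.sum_const_nat (fun x _ => rfl)]
  refine Finset.sum_le_sum fun x hx => ?_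
  obtain ⟨a, -, rfl⟩ := Finset.mem_image.mp hx
  have ha : a ∈ Finset.univ.filter fun b => f b = f a := by simp
  by_cases hs : (Finset.univ.filter fun b => f b = f a).card = 1
  · obtain ⟨c, hc⟩ := Finset.card_eq_one.mp hs
    have hsing : ∀ b, f b = f a → b = a := by
      intro b hb
      have hbc : b ∈ Finset.univ.filter fun b => f b = f a := by simp [hb]
      rw [hc, Finset.mem_singleton] at hbc ha
      exact hbc.trans ha.symm
    have : 0 < (T.filter fun b => f b = f a).card :=
      Finset.card_pos.mpr ⟨a, Finset.mem_filter.mpr ⟨hT a hsing, rfl⟩⟩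
    omega
  · have : 0 < (Finset.univ.filter fun b => f b = f a).card := Finset.card_pos.mpr ⟨a, ha⟩
    omega

end Count

variable {F : Type*} [Field F] [Finite F] {n : ℕ}

theorem diag_bound (hF : Odd (Nat.card F)) (S E : Subgroup (GL (Fin n) F))
    (hS : Nat.card S = 2 ^ glv (Nat.card F) n)
    (hd : ∀ e ∈ E, ∃ s : Fin n → F, (∀ i, s i = 1 ∨ s i = -1) ∧
      (e : Matrix (Fin n) (Fin n) F) = diagonal s)
    (hn : ∀ g ∈ S, ∀ e ∈ E, g * e * g⁻¹ ∈ E) :
    Nat.card E ≤ 2 ^ n ∧ (Nat.card F % 4 = 3 → Nat.card E ≤ 2 ^ ((n + 1) / 2)) := by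
  classical
  let f : Fin n → (E → F) := fun i e => ((e : GL (Fin n) F) : Matrix (Fin n) (Fin n) F) i i
  have hc : Nat.card E ≤ 2 ^ (Finset.univ.image f).card := by
    have hinj : Function.Injective
        (fun (e : E) (x : {x // x ∈ Finset.univ.image f}) => decide ((x : E → F) e = 1)) := by
      intro e e' h
      refine Subtype.ext (Units.ext ?_)
      obtain ⟨s, hs, hes⟩ := hd e e.2
      obtain ⟨s', hs', hes'⟩ := hd e' e'.2
      rw [hes, hes']
      refine congrArg diagonal (funext fun i => ?_)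
      have h' := congrFun h ⟨f i, Finset.mem_image_of_mem f (Finset.mem_univ i)⟩
      simp only [decide_eq_decide, f, hes, hes', diagonal_apply_eq] at h'
      rcases hs i with a | a <;> rcases hs' i with b | b
      · rw [a, b]
      · rw [a, h'.mp a]
      · rw [b, h'.mpr b]
      · rw [a, b]
    calc Nat.card E ≤ Nat.card ({x // x ∈ Finset.univ.image f} → Bool) :=
          Nat.card_le_card_of_injective _ hinj
      _ = 2 ^ (Finset.univ.image f).card := by
          rw [Nat.card_fun, Nat.card_eq_fintype_card (α := Bool), Fintype.card_bool,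
            Nat.card_eq_fintype_card, Fintype.card_coe]
  refine ⟨hc.trans (Nat.pow_le_pow_right two_pos
    (Finset.card_image_le.trans_eq (by simp))), fun h3 => ?_⟩
  let T : Finset (Fin n) := Finset.univ.filter fun j => ∀ i, f i = f j → i = j
  have hcount := two_mul_card_image_le f T (fun a h => by simp [T]; exact h)
  rw [Fintype.card_fin] at hcount
  have hT1 : T.card ≤ 1 := by
    by_contra hk
    push Not at hk
    have hkn : T.card ≤ n := by simpa using T.card_le_univ
    have hsupp : ∀ g ∈ S, ∃ π : Equiv.Perm (Fin n), (∀ j, π j ∈ T ↔ j ∈ T) ∧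
        ∀ i j, (g : Matrix (Fin n) (Fin n) F) i j ≠ 0 →
          (i ∈ T ↔ j ∈ T) ∧ (j ∈ T → i = π j) := by
      intro g hg
      refine support_singleton E (fun e he => ?_) g (fun e he =>
        ⟨by simpa using hn g⁻¹ (S.inv_mem hg) e he, hn g hg e he⟩) T (fun j => ?_)
      · obtain ⟨s, -, hes⟩ := hd e he
        rw [hes]; exact isDiag_diagonal s
      · simp only [T, Finset.mem_filter, Finset.mem_univ, true_and]
        exact ⟨fun h i hi => h i (funext fun e => hi e e.2),
          fun h i hi => h i (fun e he => congrFun hi ⟨e, he⟩)⟩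
    have hdvd := card_dvd_block_monomial S T hsupp
    rw [hS] at hdvd
    have hne : T.card.factorial *
        (Nat.card Fˣ ^ T.card * Nat.card (GL (Fin (n - T.card)) F)) ≠ 0 :=
      mul_ne_zero (Nat.factorial_ne_zero _) (mul_ne_zero (pow_ne_zero _ Nat.card_pos.ne')
        Nat.card_pos.ne')
    have hle := (padicValNat_dvd_iff_le (p := 2) hne).mp hdvd
    rw [padicValNat.mul (Nat.factorial_ne_zero _)
        (mul_ne_zero (pow_ne_zero _ Nat.card_pos.ne') Nat.card_pos.ne'),
      padicValNat.mul (pow_ne_zero _ Nat.card_pos.ne') Nat.card_pos.ne', padicValNat.pow,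
      GLOrder.card_units, ← Nat.factorization_def _ Nat.prime_two,
      ← Nat.factorization_def (Nat.card (GL _ F)) Nat.prime_two, val_card_GL hF,
      Nat.factorization_def _ Nat.prime_two] at hle
    have := three_mod_four hF Finite.one_lt_card h3 hk hkn
    omega
  exact hc.trans (Nat.pow_le_pow_right two_pos (by omega))

end Cfsg.Agent.GLNormalTwoRank
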